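import Mathlib
import Groth.Prelude.Def_CAlgX
import Groth.Prelude.Def_EGA4b
import Groth.Agent.GeomConn.Basic
import Groth.Agent.SmoothGU.Basic
import Groth.Agent.BranchNorm.Algebra
import Groth.Agent.GUField.Count
import Groth.Agent.Hensel.NormRed
import Groth.Agent.Hensel.BranchSum
import Groth.Agent.NormalBC.Apps
import Groth.Agent.S2135

/-!
Branches of the tensor product of henselian local algebras over an algebraically closed field.
-/

set_option autoImplicit false
set_option linter.style.haveILetI false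
universe u

open IsLocalRing TensorProduct

set_option backward.isDefEq.respectTransparency false

namespace Groth.Agent.TensorBranch

section Domain

variable (k : Type u) [Field k] [IsAlgClosed k]

/-- A tensor product of domains over an algebraically closed field is a domain. -/
theorem isDomain_tensor (A B : Type u) [CommRing A] [IsDomain A] [CommRing B] [IsDomain B] [Algebra k A]
    [Algebra k B] : IsDomain (A ⊗[k] B) := by
  let K := FractionRing A
  let L := FractionRing B
  haveI := GeomConn.isDomain_tensor (k := k) L K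
  let φ := Algebra.TensorProduct.map (IsScalarTower.toAlgHom k A K) (IsScalarTower.toAlgHom k B L)
  have hφ : Function.Injective φ := TensorProduct.map_injective_of_flat_flat _ _
    (IsFractionRing.injective A K) (IsFractionRing.injective B L)
  exact hφ.isDomain φ

/-- Every domain over an algebraically closed field is geometrically normal as soon as it is normal. -/
theorem isGeomNormal (A : Type u) [CommRing A] [IsDomain A] [IsIntegrallyClosed A] [Algebra k A] :
    EGA4.IsGeomNormal k A := fun k' _ _ hfin => by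
  haveI := hfin
  let e : k ≃ₐ[k] k' := AlgEquiv.ofBijective (Algebra.ofId k k') (IsAlgClosed.algebraMap_bijective_of_isIntegral)
  exact FlatDepth.isNormalRing_of_equiv
    ((Algebra.TensorProduct.lid k A).symm.trans (Algebra.TensorProduct.congr e AlgEquiv.refl)).toRingEquiv
    (GeomProp.isNormalRing_of_domain A)

theorem isIntegrallyClosed_tensor (A B : Type u) [CommRing A] [IsDomain A] [IsIntegrallyClosed A] [CommRing B]
    [IsDomain B] [IsIntegrallyClosed B] [Algebra k A] [Algebra k B] : IsIntegrallyClosed (A ⊗[k] B) := by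
  haveI := isDomain_tensor k A B
  have h := NormalBC.isNormalRing_tensor_geomNormal k A B (isGeomNormal k A) (GeomProp.isNormalRing_of_domain B)
  exact IsIntegrallyClosed.of_localization_maximal fun p _ _ => (h p).2

end Domain

/-- One geometric branch from a normal birational integral cover with a unique geometric point. -/
theorem numGeomBranches_eq_one {S N : Type u} [CommRing S] [CommRing N] [IsDomain N] [IsIntegrallyClosed N]
    (f : S →+* N) (hint : f.IsIntegral) (hbir : ∀ x : N, ∃ s t : S, f s ≠ 0 ∧ f s * x = f t)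
    (R : Type u) [CommRing R] [IsLocalRing R] [Algebra (S ⧸ RingHom.ker f) R]
    (𝔪 : Ideal (S ⧸ RingHom.ker f)) [𝔪.IsPrime] [IsLocalization.AtPrime R 𝔪]
    (huniq : ∀ σ₁ σ₂ : N →+* AlgebraicClosure (ResidueField R),
      σ₁.comp f = (Brnch.toClosure R).comp ((algebraMap (S ⧸ RingHom.ker f) R).comp (Ideal.Quotient.mk _)) →
      σ₂.comp f = (Brnch.toClosure R).comp ((algebraMap (S ⧸ RingHom.ker f) R).comp (Ideal.Quotient.mk _)) →
      σ₁ = σ₂) :
    Brnch.numGeomBranches R = 1 := by
  classical
  haveI : (RingHom.ker f).IsPrime := RingHom.ker_isPrime f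
  let T := S ⧸ RingHom.ker f
  let L := FractionRing N
  letI : Algebra T N := (RingHom.kerLift f).toAlgebra
  haveI : IsScalarTower T N L := inferInstance
  haveI : FaithfulSMul T L := (faithfulSMul_iff_algebraMap_injective T L).2 (by
    rw [IsScalarTower.algebraMap_eq T N L]
    exact (IsFractionRing.injective N L).comp (RingHom.kerLift_injective f))
  haveI : IsFractionRing T L := IsFractionRing.of_field T L fun z => by
    obtain ⟨x, y, -, rfl⟩ := IsFractionRing.div_surjective N z
    obtain ⟨s, t, hs, hst⟩ := hbir x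
    obtain ⟨s', t', hs', hst'⟩ := hbir y
    have hsL : algebraMap N L (f s) ≠ 0 := (map_ne_zero_iff _ (IsFractionRing.injective N L)).2 hs
    have hsL' : algebraMap N L (f s') ≠ 0 := (map_ne_zero_iff _ (IsFractionRing.injective N L)).2 hs'
    refine ⟨Ideal.Quotient.mk _ (t * s'), Ideal.Quotient.mk _ (s * t'), ?_⟩
    rw [IsScalarTower.algebraMap_apply T N L, IsScalarTower.algebraMap_apply T N L]
    show algebraMap N L x / algebraMap N L y = algebraMap N L (f (t * s')) / algebraMap N L (f (s * t'))
    rw [map_mul f, map_mul f, ← hst, ← hst']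
    simp only [map_mul]
    rw [show algebraMap N L (f s) * algebraMap N L x * algebraMap N L (f s') =
      (algebraMap N L (f s) * algebraMap N L (f s')) * algebraMap N L x by ring,
      show algebraMap N L (f s) * (algebraMap N L (f s') * algebraMap N L y) =
      (algebraMap N L (f s) * algebraMap N L (f s')) * algebraMap N L y by ring,
      mul_div_mul_left _ _ (mul_ne_zero hsL hsL')]
  haveI : IsDomain R := IsLocalization.isDomain_of_le_nonZeroDivisors R 𝔪.primeCompl_le_nonZeroDivisors
  rw [(BranchNorm.branches_eq T 𝔪 R L (integralClosure T L) AlgEquiv.refl).2]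
  let τ := (Brnch.toClosure R).comp (algebraMap T R)
  have hsub : ∀ a b : {σ : integralClosure T L →+* AlgebraicClosure (ResidueField R) //
      σ.comp (algebraMap T (integralClosure T L)) = τ}, a = b := fun a b => Subtype.ext (by
    have hTN : Algebra.IsIntegral T N := ⟨fun x => by
      obtain ⟨P, hP, hPx⟩ := hint x
      exact ⟨P.map (Ideal.Quotient.mk _), hP.map _, by rw [Polynomial.eval₂_map]; exact hPx⟩⟩
    let g : N →+* integralClosure T L := (algebraMap N L).codRestrict (integralClosure T L).toSubring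
      fun n => (hTN.isIntegral n).map (IsScalarTower.toAlgHom T N L)
    have hg : ∀ z : integralClosure T L, ∃ n, g n = z := fun z => by
      obtain ⟨n, hn⟩ := IsIntegrallyClosed.algebraMap_eq_of_integral (z.2.tower_top (A := N))
      exact ⟨n, Subtype.ext hn⟩
    have hgf : g.comp f = (algebraMap T (integralClosure T L)).comp (Ideal.Quotient.mk _) :=
      RingHom.ext fun s => Subtype.ext (IsScalarTower.algebraMap_apply T N L (Ideal.Quotient.mk _ s)).symm
    have hab : (a.1).comp g = (b.1).comp g := huniq _ _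
      (by rw [RingHom.comp_assoc, hgf, ← RingHom.comp_assoc, a.2, RingHom.comp_assoc])
      (by rw [RingHom.comp_assoc, hgf, ← RingHom.comp_assoc, b.2, RingHom.comp_assoc])
    refine RingHom.ext fun z => ?_
    obtain ⟨n, rfl⟩ := hg z
    exact RingHom.congr_fun hab n)
  obtain ⟨σ0⟩ := GUField.nonempty_hom (algebraMap T (integralClosure T L)) (algebraMap_isIntegral_iff.2 inferInstance) τ
    (fun x hx => by
      have h0 : algebraMap T L x = 0 := congrArg Subtype.val (RingHom.mem_ker.1 hx)
      rw [(map_eq_zero_iff _ (IsFractionRing.injective T L)).1 h0]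
      exact zero_mem _)
  exact ENat.card_eq_one_iff_unique.2 ⟨⟨⟨σ0⟩, fun a => hsub a σ0⟩⟩

section Core

variable {k A B : Type u} [Field k] [IsAlgClosed k] [CommRing A] [CommRing B] [IsLocalRing A] [IsLocalRing B]
  [Algebra k A] [Algebra k B]

/-- A geometric point of an integral local cover of `A` over the closed point is unique. -/
theorem unique_hom (hA : Function.Surjective ((residue A).comp (algebraMap k A))) {A' : Type u} [CommRing A']
    [IsLocalRing A'] [Algebra k A'] [Algebra A A'] [IsScalarTower k A A'] [Algebra.IsIntegral A A'] {Ω : Type u}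
    [Field Ω] (τ : A →+* Ω) (hτ : RingHom.ker τ = maximalIdeal A) (σ₁ σ₂ : A' →+* Ω)
    (h₁ : σ₁.comp (algebraMap A A') = τ) (h₂ : σ₂.comp (algebraMap A A') = τ) : σ₁ = σ₂ := by
  letI : Algebra k Ω := (τ.comp (algebraMap k A)).toAlgebra
  have hk : ∀ a : A, ∃ c : k, τ a = algebraMap k Ω c := fun a => by
    obtain ⟨c, hc⟩ := hA (residue A a)
    refine ⟨c, ?_⟩
    have h1 : a - algebraMap k A c ∈ RingHom.ker τ := by
      rw [hτ, ← residue_eq_zero_iff, map_sub, sub_eq_zero]
      exact hc.symm
    rw [RingHom.mem_ker, map_sub, sub_eq_zero] at h1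
    exact h1
  have key : ∀ σ : A' →+* Ω, σ.comp (algebraMap A A') = τ → RingHom.ker σ = maximalIdeal A' ∧
      ∀ x : A', ∃ c : k, σ x = algebraMap k Ω c := fun σ hσ => by
    haveI : (RingHom.ker σ).IsPrime := RingHom.ker_isPrime σ
    refine ⟨IsLocalRing.eq_maximalIdeal (Ideal.isMaximal_of_isIntegral_of_isMaximal_comap (R := A) _ ?_), fun x => ?_⟩
    · rw [RingHom.comap_ker, hσ, hτ]
      exact maximalIdeal.isMaximal A
    · obtain ⟨P, hP, hPx⟩ := Algebra.IsIntegral.isIntegral (R := A) x
      have hroot : (P.map τ).IsRoot (σ x) := by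
        rw [Polynomial.IsRoot, Polynomial.eval_map, ← hσ, ← Polynomial.hom_eval₂, hPx, map_zero]
      have hint : IsIntegral k (σ x) := by
        have hl : P.map τ ∈ Polynomial.lifts (algebraMap k Ω) := (Polynomial.lifts_iff_coeff_lifts _).2 fun i => by
          obtain ⟨c, hc⟩ := hk (P.coeff i)
          exact ⟨c, by rw [Polynomial.coeff_map, hc]⟩
        obtain ⟨Q, hQ, -, hQm⟩ := Polynomial.lifts_and_degree_eq_and_monic hl (hP.map τ)
        refine ⟨Q, hQm, ?_⟩
        rw [← Polynomial.eval_map, hQ]
        exact hroot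
      obtain ⟨c, hc⟩ := (IsAlgClosed.algebraMap_bijective_of_isIntegral (k := k) (K := integralClosure k Ω)).2 ⟨σ x, hint⟩
      exact ⟨c, (congrArg Subtype.val hc).symm⟩
  obtain ⟨hk1, hv1⟩ := key σ₁ h₁
  obtain ⟨hk2, -⟩ := key σ₂ h₂
  have hc : ∀ (σ : A' →+* Ω), σ.comp (algebraMap A A') = τ → ∀ c : k, σ (algebraMap k A' c) = algebraMap k Ω c :=
    fun σ hσ c => by
      rw [IsScalarTower.algebraMap_apply k A A']
      exact RingHom.congr_fun hσ (algebraMap k A c)
  refine RingHom.ext fun x => ?_
  obtain ⟨c, hx⟩ := hv1 x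
  have h3 : x - algebraMap k A' c ∈ RingHom.ker σ₁ := by rw [RingHom.mem_ker, map_sub, hc σ₁ h₁, hx, sub_self]
  rw [hk1, ← hk2, RingHom.mem_ker, map_sub, hc σ₂ h₂, sub_eq_zero] at h3
  rw [hx, h3]

set_option maxHeartbeats 1600000 in
/-- The tensor product of two domains with local normalisations is geometrically unibranch at the closed point. -/
theorem isGeomUnibranch_tensor (hA : Function.Surjective ((residue A).comp (algebraMap k A)))
    (hB : Function.Surjective ((residue B).comp (algebraMap k B)))
    (A' B' : Type u) [CommRing A'] [CommRing B'] [IsDomain A'] [IsDomain B'] [IsLocalRing A'] [IsLocalRing B']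
    [IsIntegrallyClosed A'] [IsIntegrallyClosed B'] [Algebra k A'] [Algebra k B'] [Algebra A A'] [Algebra B B']
    [IsScalarTower k A A'] [IsScalarTower k B B'] [Algebra.IsIntegral A A'] [Algebra.IsIntegral B B']
    (hbA : ∀ x : A', ∃ s t : A, algebraMap A A' s ≠ 0 ∧ algebraMap A A' s * x = algebraMap A A' t)
    (hbB : ∀ x : B', ∃ s t : B, algebraMap B B' s ≠ 0 ∧ algebraMap B B' s * x = algebraMap B B' t)
    (f : A ⊗[k] B →+* A' ⊗[k] B')
    (hf : f = (Algebra.TensorProduct.map (IsScalarTower.toAlgHom k A A') (IsScalarTower.toAlgHom k B B')).toRingHom)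
    (R : Type u) [CommRing R] [IsLocalRing R] [Algebra ((A ⊗[k] B) ⧸ RingHom.ker f) R]
    (𝔪 : Ideal ((A ⊗[k] B) ⧸ RingHom.ker f)) [𝔪.IsPrime] [IsLocalization.AtPrime R 𝔪]
    (h1 : ∀ a ∈ maximalIdeal A, Ideal.Quotient.mk (RingHom.ker f) (a ⊗ₜ (1 : B)) ∈ 𝔪)
    (h2 : ∀ b ∈ maximalIdeal B, Ideal.Quotient.mk (RingHom.ker f) ((1 : A) ⊗ₜ b) ∈ 𝔪) :
    CAlg2.IsGeomUnibranch R := by
  haveI := isDomain_tensor k A' B'
  haveI := isIntegrallyClosed_tensor k A' B'
  have hfl : ∀ a : A, f (a ⊗ₜ (1 : B)) = algebraMap A A' a ⊗ₜ[k] (1 : B') := fun a => by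
    subst hf
    exact (Algebra.TensorProduct.map_tmul _ _ a 1).trans (by rw [map_one]; rfl)
  have hfr : ∀ b : B, f ((1 : A) ⊗ₜ b) = (1 : A') ⊗ₜ[k] algebraMap B B' b := fun b => by
    subst hf
    exact (Algebra.TensorProduct.map_tmul _ _ 1 b).trans (by rw [map_one]; rfl)
  have hfm : ∀ a b, f (a ⊗ₜ[k] b) = algebraMap A A' a ⊗ₜ[k] algebraMap B B' b := fun a b => by
    subst hf
    exact Algebra.TensorProduct.map_tmul _ _ a b
  have hint : f.IsIntegral := fun x => by
    induction x using TensorProduct.induction_on with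
    | zero => exact RingHom.isIntegralElem_zero f
    | add x y hx hy => exact RingHom.IsIntegralElem.add f hx hy
    | tmul a b =>
      rw [← mul_one a, ← one_mul b, ← Algebra.TensorProduct.tmul_mul_tmul]
      refine RingHom.IsIntegralElem.mul f ?_ ?_
      · obtain ⟨P, hP, hPx⟩ := Algebra.IsIntegral.isIntegral (R := A) a
        let iA : A →+* A ⊗[k] B := Algebra.TensorProduct.includeLeftRingHom
        let iA' : A' →+* A' ⊗[k] B' := Algebra.TensorProduct.includeLeftRingHom
        refine ⟨P.map iA, hP.map _, ?_⟩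
        have hcomp : f.comp iA = iA'.comp (algebraMap A A') := RingHom.ext hfl
        rw [Polynomial.eval₂_map, hcomp]
        exact (Polynomial.hom_eval₂ P (algebraMap A A') iA' a).symm.trans (by rw [hPx, map_zero])
      · obtain ⟨P, hP, hPx⟩ := Algebra.IsIntegral.isIntegral (R := B) b
        let iB : B →+* A ⊗[k] B := (Algebra.TensorProduct.includeRight : B →ₐ[k] A ⊗[k] B).toRingHom
        let iB' : B' →+* A' ⊗[k] B' := (Algebra.TensorProduct.includeRight : B' →ₐ[k] A' ⊗[k] B').toRingHom
        refine ⟨P.map iB, hP.map _, ?_⟩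
        have hcomp : f.comp iB = iB'.comp (algebraMap B B') := RingHom.ext hfr
        rw [Polynomial.eval₂_map, hcomp]
        exact (Polynomial.hom_eval₂ P (algebraMap B B') iB' b).symm.trans (by rw [hPx, map_zero])
  have hbir : ∀ x : A' ⊗[k] B', ∃ s t, f s ≠ 0 ∧ f s * x = f t := fun x => by
    induction x using TensorProduct.induction_on with
    | zero => exact ⟨1, 0, by rw [map_one]; exact one_ne_zero, by rw [mul_zero, map_zero]⟩
    | add x y hx hy =>
      obtain ⟨s, t, hs, hst⟩ := hx
      obtain ⟨s', t', hs', hst'⟩ := hy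
      refine ⟨s * s', t * s' + s * t', by rw [map_mul]; exact mul_ne_zero hs hs', ?_⟩
      rw [map_mul, map_add, map_mul, map_mul, ← hst, ← hst']
      ring
    | tmul a b =>
      obtain ⟨s, t, hs, hst⟩ := hbA a
      obtain ⟨s', t', hs', hst'⟩ := hbB b
      refine ⟨s ⊗ₜ s', t ⊗ₜ t', ?_, by rw [hfm, hfm, Algebra.TensorProduct.tmul_mul_tmul, hst, hst']⟩
      rw [hfm, ← mul_one (algebraMap A A' s), ← one_mul (algebraMap B B' s'), ← Algebra.TensorProduct.tmul_mul_tmul]
      refine mul_ne_zero (fun h => hs ?_) (fun h => hs' ?_)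
      · exact Algebra.TensorProduct.includeLeft_injective (S := k) (algebraMap k B').injective
          (h.trans (TensorProduct.zero_tmul _ _).symm)
      · exact Algebra.TensorProduct.includeRight_injective (algebraMap k A').injective
          (h.trans (TensorProduct.tmul_zero _ _).symm)
  rw [← Hensel.numGeomBranches_eq_one_iff]
  refine numGeomBranches_eq_one f hint hbir R 𝔪 fun σ₁ σ₂ e₁ e₂ => ?_
  let τ := (Brnch.toClosure R).comp ((algebraMap ((A ⊗[k] B) ⧸ RingHom.ker f) R).comp (Ideal.Quotient.mk _))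
  have hker : ∀ x, Ideal.Quotient.mk (RingHom.ker f) x ∈ 𝔪 → τ x = 0 := fun x hx => by
    show algebraMap _ _ (residue R (algebraMap _ R (Ideal.Quotient.mk _ x))) = 0
    rw [(residue_eq_zero_iff _).2 ((IsLocalization.AtPrime.to_map_mem_maximal_iff R 𝔪 _).2 hx), map_zero]
  have hmaxA : RingHom.ker (τ.comp Algebra.TensorProduct.includeLeftRingHom) = maximalIdeal A :=
    ((maximalIdeal.isMaximal A).eq_of_le (RingHom.ker_ne_top _) fun a ha => RingHom.mem_ker.2 (hker _ (h1 a ha))).symm
  have hmaxB : RingHom.ker (τ.comp (Algebra.TensorProduct.includeRight : B →ₐ[k] A ⊗[k] B).toRingHom) = maximalIdeal B :=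
    ((maximalIdeal.isMaximal B).eq_of_le (RingHom.ker_ne_top _) fun b hb => RingHom.mem_ker.2 (hker _ (h2 b hb))).symm
  have eA := unique_hom hA _ hmaxA (σ₁.comp Algebra.TensorProduct.includeLeftRingHom)
    (σ₂.comp Algebra.TensorProduct.includeLeftRingHom)
    (RingHom.ext fun a => (congrArg σ₁ (hfl a)).symm.trans (RingHom.congr_fun e₁ _))
    (RingHom.ext fun a => (congrArg σ₂ (hfl a)).symm.trans (RingHom.congr_fun e₂ _))
  have eB := unique_hom hB _ hmaxB (σ₁.comp (Algebra.TensorProduct.includeRight : B' →ₐ[k] A' ⊗[k] B').toRingHom)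
    (σ₂.comp (Algebra.TensorProduct.includeRight : B' →ₐ[k] A' ⊗[k] B').toRingHom)
    (RingHom.ext fun b => (congrArg σ₁ (hfr b)).symm.trans (RingHom.congr_fun e₁ _))
    (RingHom.ext fun b => (congrArg σ₂ (hfr b)).symm.trans (RingHom.congr_fun e₂ _))
  refine RingHom.ext fun x => ?_
  induction x using TensorProduct.induction_on with
  | zero => rw [map_zero, map_zero]
  | add x y hx hy => rw [map_add, map_add, hx, hy]
  | tmul a b =>
    rw [← mul_one a, ← one_mul b, ← Algebra.TensorProduct.tmul_mul_tmul, map_mul, map_mul]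
    exact congrArg₂ (· * ·) (RingHom.congr_fun eA a) (RingHom.congr_fun eB b)

end Core

/-- Data of a local normalisation of a henselian local ring modulo a prime. -/
theorem exists_normalization {k A : Type u} [Field k] [CommRing A] [HenselianLocalRing A] [Algebra k A]
    (p : Ideal A) [p.IsPrime] :
    ∃ (A' : Type u) (_ : CommRing A') (_ : Algebra k A') (_ : Algebra A A'), IsScalarTower k A A' ∧ IsDomain A' ∧
      IsLocalRing A' ∧ IsIntegrallyClosed A' ∧ Algebra.IsIntegral A A' ∧ RingHom.ker (algebraMap A A') = p ∧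
      ∀ x : A', ∃ s t : A, algebraMap A A' s ≠ 0 ∧ algebraMap A A' s * x = algebraMap A A' t := by
  let A0 := A ⧸ p
  haveI : Nontrivial A0 := Ideal.Quotient.nontrivial_iff.2 (Ideal.IsPrime.ne_top ‹_›)
  haveI : IsLocalRing A0 := .of_surjective' (Ideal.Quotient.mk p) Ideal.Quotient.mk_surjective
  haveI : Algebra.IsIntegral A A0 := Algebra.IsIntegral.of_surjective (Ideal.Quotient.mkₐ A p) Ideal.Quotient.mk_surjective
  haveI : HenselianLocalRing A0 := Hensel.henselianLocalRing_finite A A0
  have hU := SmoothGU.isUnibranch_of_henselian_domain A0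
  haveI : IsDomain (CAlg2.red A0) := hU.1
  let A' := CAlg2.normRed A0
  haveI : IsLocalRing A' := hU.2
  haveI : IsIntegrallyClosed A' := Hensel.isIntegrallyClosed_integralClosure_field _ _
  haveI := Hensel.isIntegral_normRed A0
  letI algA : Algebra A A' := ((algebraMap A0 A').comp (Ideal.Quotient.mk p)).toAlgebra
  haveI : IsScalarTower A A0 A' := IsScalarTower.of_algebraMap_eq fun _ => rfl
  haveI : Algebra.IsIntegral A A' := Algebra.IsIntegral.trans A0
  letI algk : Algebra k A' := ((algebraMap A A').comp (algebraMap k A)).toAlgebra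
  have hinj : Function.Injective (algebraMap A0 A') := by
    intro x y h
    rw [Hensel.algebraMap_normRed, Hensel.algebraMap_normRed] at h
    have h' := IsFractionRing.injective (CAlg2.red A0) (FractionRing (CAlg2.red A0)) (congrArg Subtype.val h)
    exact sub_eq_zero.1 (by simpa [nilradical_eq_zero A0] using Ideal.Quotient.eq.1 h')
  refine ⟨A', inferInstance, algk, algA, IsScalarTower.of_algebraMap_eq fun _ => rfl, inferInstance, inferInstance,
    inferInstance, inferInstance, ?_, fun x => ?_⟩
  · show RingHom.ker ((algebraMap A0 A').comp (Ideal.Quotient.mk p)) = p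
    rw [RingHom.ker_comp_of_injective _ hinj, Ideal.mk_ker]
  · obtain ⟨t, a, ht, hta⟩ := Hensel.exists_smul_normRed A0 x
    obtain ⟨t, rfl⟩ := Ideal.Quotient.mk_surjective t
    obtain ⟨a, rfl⟩ := Ideal.Quotient.mk_surjective a
    refine ⟨t, a, fun h0 => ?_, hta⟩
    have hbot : (⊥ : Ideal A0) ∈ minimalPrimes A0 := by
      rw [IsDomain.minimalPrimes_eq_singleton_bot]; exact Set.mem_singleton _
    exact ht ⊥ hbot (Ideal.mem_bot.2 (hinj (h0.trans (map_zero _).symm)))

set_option maxHeartbeats 1600000 in
/-- Minimal primes of a strict henselization of the tensor product at the closed point. -/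
theorem bijOn_minimalPrimes {k A B C : Type u} [Field k]
    [IsAlgClosed k] [CommRing A] [CommRing B] [HenselianLocalRing A] [HenselianLocalRing B]
    [Algebra k A] [Algebra k B]
    (hA : Function.Surjective ((residue A).comp (algebraMap k A)))
    (hB : Function.Surjective ((residue B).comp (algebraMap k B)))
    (𝔪 : Ideal (A ⊗[k] B)) [𝔪.IsPrime]
    (h𝔪 : 𝔪 = (maximalIdeal A).map (Algebra.TensorProduct.includeLeft : A →ₐ[k] A ⊗[k] B) ⊔
      (maximalIdeal B).map (Algebra.TensorProduct.includeRight : B →ₐ[k] A ⊗[k] B))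
    [CommRing C] [IsLocalRing C] [Algebra (Localization.AtPrime 𝔪) C]
    [IsLocalHom (algebraMap (Localization.AtPrime 𝔪) C)]
    [_root_.Hensel.IsStrictHenselization (Localization.AtPrime 𝔪) C] :
    Set.BijOn
      (fun 𝔯 : Ideal C =>
        (𝔯.comap ((algebraMap (Localization.AtPrime 𝔪) C).comp
            ((algebraMap (A ⊗[k] B) (Localization.AtPrime 𝔪)).comp
              (Algebra.TensorProduct.includeLeft : A →ₐ[k] A ⊗[k] B).toRingHom)),
          𝔯.comap ((algebraMap (Localization.AtPrime 𝔪) C).comp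
            ((algebraMap (A ⊗[k] B) (Localization.AtPrime 𝔪)).comp
              (Algebra.TensorProduct.includeRight : B →ₐ[k] A ⊗[k] B).toRingHom))))
      (minimalPrimes C) (minimalPrimes A ×ˢ minimalPrimes B) := by
  let S := A ⊗[k] B
  let R := Localization.AtPrime 𝔪
  let iA : A →+* S := (Algebra.TensorProduct.includeLeft : A →ₐ[k] S).toRingHom
  let iB : B →+* S := (Algebra.TensorProduct.includeRight : B →ₐ[k] S).toRingHom
  haveI : Module.Flat A S := inferInstance
  letI algB : Algebra B S := iB.toAlgebra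
  haveI : IsScalarTower k B S := IsScalarTower.of_algebraMap_eq fun c => by
    show algebraMap k S c = iB (algebraMap k B c)
    exact ((Algebra.TensorProduct.includeRight : B →ₐ[k] S).commutes c).symm
  haveI : Module.Flat B S := by
    refine Module.Flat.of_linearEquiv (M := B ⊗[k] A) ?_
    exact ({ (Algebra.TensorProduct.comm k B A).symm.symm.toRingEquiv with
      map_smul' := fun b z => by
        show Algebra.TensorProduct.comm k B A (b • z) = iB b * Algebra.TensorProduct.comm k B A z
        rw [Algebra.smul_def, map_mul]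
        rfl } : B ⊗[k] A ≃ₗ[B] S).symm
  haveI := Hensel.strictHenselization_faithfullyFlat R C
  -- a minimal prime of the tensor product is determined by its pair of traces
  let ker2 : Ideal A → Ideal B → Ideal S := fun p q => p.map iA ⊔ q.map iB
  have hker2 : ∀ (p : Ideal A) (q : Ideal B) [p.IsPrime] [q.IsPrime], (ker2 p q).IsPrime ∧
      (ker2 p q).comap iA = p ∧ (ker2 p q).comap iB = q ∧ ker2 p q ≤ 𝔪 := fun p q _ _ => by
    haveI := isDomain_tensor k (A ⧸ p) (B ⧸ q)
    let π := Algebra.TensorProduct.map (Ideal.Quotient.mkₐ k p) (Ideal.Quotient.mkₐ k q)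
    have hπ : RingHom.ker π.toRingHom = ker2 p q := by
      have h := Algebra.TensorProduct.map_ker (f := Ideal.Quotient.mkₐ k p) (g := Ideal.Quotient.mkₐ k q)
        Ideal.Quotient.mk_surjective Ideal.Quotient.mk_surjective
      rw [show RingHom.ker (Ideal.Quotient.mkₐ k p) = p from Ideal.mk_ker,
        show RingHom.ker (Ideal.Quotient.mkₐ k q) = q from Ideal.mk_ker] at h
      exact h
    refine ⟨hπ ▸ RingHom.ker_isPrime _, ?_, ?_, ?_⟩
    · rw [← hπ, RingHom.comap_ker]
      ext a
      rw [RingHom.mem_ker, ← Ideal.Quotient.eq_zero_iff_mem (I := p)]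
      show π (a ⊗ₜ 1) = 0 ↔ _
      rw [Algebra.TensorProduct.map_tmul, map_one]
      exact ⟨fun h => Algebra.TensorProduct.includeLeft_injective (S := k) (algebraMap k (B ⧸ q)).injective
        (h.trans (TensorProduct.zero_tmul _ _).symm), fun h => by
          rw [show Ideal.Quotient.mkₐ k p a = 0 from h, TensorProduct.zero_tmul]⟩
    · rw [← hπ, RingHom.comap_ker]
      ext b
      rw [RingHom.mem_ker, ← Ideal.Quotient.eq_zero_iff_mem (I := q)]
      show π (1 ⊗ₜ b) = 0 ↔ _
      rw [Algebra.TensorProduct.map_tmul, map_one]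
      exact ⟨fun h => Algebra.TensorProduct.includeRight_injective (algebraMap k (A ⧸ p)).injective
        (h.trans (TensorProduct.tmul_zero _ _).symm), fun h => by
          rw [show Ideal.Quotient.mkₐ k q b = 0 from h, TensorProduct.tmul_zero]⟩
    · rw [h𝔪]
      exact sup_le_sup (Ideal.map_mono (le_maximalIdeal (Ideal.IsPrime.ne_top ‹_›)))
        (Ideal.map_mono (le_maximalIdeal (Ideal.IsPrime.ne_top ‹_›)))
  have hmin : ∀ P ∈ minimalPrimes S, P.comap iA ∈ minimalPrimes A ∧ P.comap iB ∈ minimalPrimes B ∧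
      P = ker2 (P.comap iA) (P.comap iB) := fun P hP => by
    haveI := hP.1.1
    obtain ⟨hk, -, -, -⟩ := hker2 (P.comap iA) (P.comap iB)
    have hle : ker2 (P.comap iA) (P.comap iB) ≤ P := sup_le Ideal.map_comap_le Ideal.map_comap_le
    exact ⟨Hensel.comap_mem_minimalPrimes_of_flat (R := A) hP, Hensel.comap_mem_minimalPrimes_of_flat (R := B) hP,
      le_antisymm (hP.2 ⟨hk, bot_le⟩ hle) hle⟩
  have hmin' : ∀ p ∈ minimalPrimes A, ∀ q ∈ minimalPrimes B, ker2 p q ∈ minimalPrimes S := fun p hp q hq => by
    haveI := hp.1.1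
    haveI := hq.1.1
    obtain ⟨hk, h1, h2, -⟩ := hker2 p q
    haveI := hk
    obtain ⟨P, hP, hle⟩ := Ideal.exists_minimalPrimes_le (bot_le : ⊥ ≤ ker2 p q)
    obtain ⟨m1, m2, m3⟩ := hmin P hP
    have e1 : P.comap iA = p := le_antisymm ((Ideal.comap_mono hle).trans h1.le)
      (hp.2 m1.1 ((Ideal.comap_mono hle).trans h1.le))
    have e2 : P.comap iB = q := le_antisymm ((Ideal.comap_mono hle).trans h2.le)
      (hq.2 m2.1 ((Ideal.comap_mono hle).trans h2.le))
    rw [e1, e2] at m3
    exact m3 ▸ hP
  -- minimal primes of the strict henselization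
  have hC : ∀ T ∈ minimalPrimes C, (T.comap (algebraMap R C)).comap (algebraMap S R) ∈ minimalPrimes S := fun T hT => by
    haveI : Module.Flat S R := IsLocalization.flat R 𝔪.primeCompl
    exact Hensel.comap_mem_minimalPrimes_of_flat (R := S) (Hensel.comap_mem_minimalPrimes_of_flat (R := R) hT)
  refine ⟨fun T hT => ?_, fun T hT T' hT' he => ?_, fun pq hpq => ?_⟩
  · obtain ⟨m1, m2, -⟩ := hmin _ (hC T hT)
    exact ⟨m1, m2⟩
  · -- only one branch over each minimal prime
    obtain ⟨mp, mq, hP⟩ := hmin _ (hC T hT)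
    obtain ⟨-, -, hP'⟩ := hmin _ (hC T' hT')
    have heA : ((T.comap (algebraMap R C)).comap (algebraMap S R)).comap iA =
        ((T'.comap (algebraMap R C)).comap (algebraMap S R)).comap iA := congrArg Prod.fst he
    have heB : ((T.comap (algebraMap R C)).comap (algebraMap S R)).comap iB =
        ((T'.comap (algebraMap R C)).comap (algebraMap S R)).comap iB := congrArg Prod.snd he
    have hPP : (T.comap (algebraMap R C)).comap (algebraMap S R) = (T'.comap (algebraMap R C)).comap (algebraMap S R) := by
      rw [hP, hP', heA, heB]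
    set P := (T.comap (algebraMap R C)).comap (algebraMap S R) with hPdef
    haveI := hT.1.1
    haveI := hT'.1.1
    haveI hmp := mp.1.1
    haveI hmq := mq.1.1
    obtain ⟨A', _, _, _, _, _, _, _, _, hkA, hbA⟩ := exists_normalization (k := k) (P.comap iA)
    obtain ⟨B', _, _, _, _, _, _, _, _, hkB, hbB⟩ := exists_normalization (k := k) (P.comap iB)
    let f : S →+* A' ⊗[k] B' :=
      (Algebra.TensorProduct.map (IsScalarTower.toAlgHom k A A') (IsScalarTower.toAlgHom k B B')).toRingHom
    have hfker : RingHom.ker f = P := by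
      haveI : (RingHom.ker f).IsPrime := haveI := isDomain_tensor k A' B'; RingHom.ker_isPrime _
      refine le_antisymm ?_ ?_
      · have h1 : P.comap iA = (RingHom.ker f).comap iA := by
          rw [RingHom.comap_ker, ← hkA]
          ext a
          rw [RingHom.mem_ker, RingHom.mem_ker]
          show _ ↔ f (a ⊗ₜ 1) = 0
          rw [show f (a ⊗ₜ[k] (1 : B)) = algebraMap A A' a ⊗ₜ[k] (1 : B') from
            (Algebra.TensorProduct.map_tmul _ _ a 1).trans (by rw [map_one]; rfl)]
          exact ⟨fun h => by rw [h, TensorProduct.zero_tmul], fun h => Algebra.TensorProduct.includeLeft_injective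
            (S := k) (algebraMap k B').injective (h.trans (TensorProduct.zero_tmul _ _).symm)⟩
        have h2 : P.comap iB = (RingHom.ker f).comap iB := by
          rw [RingHom.comap_ker, ← hkB]
          ext b
          rw [RingHom.mem_ker, RingHom.mem_ker]
          show _ ↔ f (1 ⊗ₜ b) = 0
          rw [show f ((1 : A) ⊗ₜ[k] b) = (1 : A') ⊗ₜ[k] algebraMap B B' b from
            (Algebra.TensorProduct.map_tmul _ _ 1 b).trans (by rw [map_one]; rfl)]
          exact ⟨fun h => by rw [h, TensorProduct.tmul_zero], fun h => Algebra.TensorProduct.includeRight_injective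
            (algebraMap k A').injective (h.trans (TensorProduct.tmul_zero _ _).symm)⟩
        have hπ := Algebra.TensorProduct.map_ker (f := Ideal.Quotient.mkₐ k (P.comap iA))
          (g := Ideal.Quotient.mkₐ k (P.comap iB)) Ideal.Quotient.mk_surjective Ideal.Quotient.mk_surjective
        rw [show RingHom.ker (Ideal.Quotient.mkₐ k (P.comap iA)) = P.comap iA from Ideal.mk_ker,
          show RingHom.ker (Ideal.Quotient.mkₐ k (P.comap iB)) = P.comap iB from Ideal.mk_ker] at hπ
        rw [hP]
        let gA : A ⧸ P.comap iA →ₐ[k] A' := Ideal.Quotient.liftₐ _ (IsScalarTower.toAlgHom k A A') fun a ha => by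
          rw [← hkA] at ha; exact ha
        let gB : B ⧸ P.comap iB →ₐ[k] B' := Ideal.Quotient.liftₐ _ (IsScalarTower.toAlgHom k B B') fun b hb => by
          rw [← hkB] at hb; exact hb
        have hinj : Function.Injective (Algebra.TensorProduct.map gA gB) := by
          refine TensorProduct.map_injective_of_flat_flat gA.toLinearMap gB.toLinearMap ?_ ?_
          · refine (injective_iff_map_eq_zero gA).2 fun z hz => ?_
            obtain ⟨a, rfl⟩ := Ideal.Quotient.mk_surjective z
            exact Ideal.Quotient.eq_zero_iff_mem.2 (hkA.le hz)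
          · refine (injective_iff_map_eq_zero gB).2 fun z hz => ?_
            obtain ⟨b, rfl⟩ := Ideal.Quotient.mk_surjective z
            exact Ideal.Quotient.eq_zero_iff_mem.2 (hkB.le hz)
        intro z hz
        have hfac : f z = Algebra.TensorProduct.map gA gB
            (Algebra.TensorProduct.map (Ideal.Quotient.mkₐ k (P.comap iA)) (Ideal.Quotient.mkₐ k (P.comap iB)) z) := by
          show Algebra.TensorProduct.map _ _ z = _
          rw [← AlgHom.comp_apply, ← Algebra.TensorProduct.map_comp]
          rfl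
        rw [RingHom.mem_ker, hfac, map_eq_zero_iff _ hinj] at hz
        exact hπ.le hz
      · rw [hP]
        refine sup_le (Ideal.map_le_iff_le_comap.2 fun a ha => ?_) (Ideal.map_le_iff_le_comap.2 fun b hb => ?_)
        · rw [← hkA] at ha
          show f (a ⊗ₜ 1) = 0
          rw [show f (a ⊗ₜ[k] (1 : B)) = algebraMap A A' a ⊗ₜ[k] (1 : B') from
            (Algebra.TensorProduct.map_tmul _ _ a 1).trans (by rw [map_one]; rfl), RingHom.mem_ker.1 ha,
            TensorProduct.zero_tmul]
        · rw [← hkB] at hb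
          show f (1 ⊗ₜ b) = 0
          rw [show f ((1 : A) ⊗ₜ[k] b) = (1 : A') ⊗ₜ[k] algebraMap B B' b from
            (Algebra.TensorProduct.map_tmul _ _ 1 b).trans (by rw [map_one]; rfl), RingHom.mem_ker.1 hb,
            TensorProduct.tmul_zero]
    obtain ⟨-, -, -, hP𝔪⟩ := hker2 (P.comap iA) (P.comap iB)
    rw [← hP] at hP𝔪
    haveI : P.IsPrime := (hC T hT).1.1
    let PR := P.map (algebraMap S R)
    have hd : Disjoint (𝔪.primeCompl : Set S) (P : Set S) := Set.disjoint_left.mpr fun z hz hzP => hz (hP𝔪 hzP)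
    haveI hPRp : PR.IsPrime := IsLocalization.isPrime_of_isPrime_disjoint 𝔪.primeCompl R P inferInstance hd
    have hTR : T.comap (algebraMap R C) = PR := (IsLocalization.map_comap 𝔪.primeCompl R _).symm
    have hTR' : T'.comap (algebraMap R C) = PR := by
      show _ = P.map _
      rw [hPP]
      exact (IsLocalization.map_comap 𝔪.primeCompl R _).symm
    obtain ⟨l1, l2, l3⟩ := Hensel.quotient_local_setup R C PR hPRp.ne_top
    haveI := l1
    haveI := l2
    haveI := l3
    haveI := Hensel.isStrictHenselization_quotient (A := R) (S := C) PR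
    let J := RingHom.ker f
    haveI : (𝔪.map (Ideal.Quotient.mk J)).IsPrime :=
      Ideal.map_isPrime_of_surjective Ideal.Quotient.mk_surjective (by rw [Ideal.mk_ker]; exact hfker.trans_le hP𝔪)
    let φJ : S ⧸ J →+* R ⧸ PR := Ideal.quotientMap PR (algebraMap S R) (hfker.trans_le Ideal.le_comap_map)
    letI algJ : Algebra (S ⧸ J) (R ⧸ PR) := @RingHom.toAlgebra (S ⧸ J) (R ⧸ PR) (Ideal.Quotient.commRing J).toCommSemiring (Ideal.Quotient.commRing PR).toCommSemiring φJ
    haveI : IsLocalization.AtPrime (R ⧸ PR) (𝔪.map (Ideal.Quotient.mk J)) := by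
      have hsub : Algebra.algebraMapSubmonoid (S ⧸ J) 𝔪.primeCompl = (𝔪.map (Ideal.Quotient.mk J)).primeCompl := by
        ext z
        obtain ⟨z, rfl⟩ := Ideal.Quotient.mk_surjective z
        have hiff : Ideal.Quotient.mk J z ∈ 𝔪.map (Ideal.Quotient.mk J) ↔ z ∈ 𝔪 := by
          rw [← Ideal.mem_comap, Ideal.comap_map_of_surjective _ Ideal.Quotient.mk_surjective, ← RingHom.ker_eq_comap_bot,
            Ideal.mk_ker, sup_eq_left.mpr (hfker.trans_le hP𝔪)]
        refine ⟨?_, fun hz => ⟨z, fun h => hz (hiff.2 h), rfl⟩⟩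
        rintro ⟨w, hw, hwz⟩
        intro h
        exact hw (by
          have h' : Ideal.Quotient.mk J w ∈ 𝔪.map (Ideal.Quotient.mk J) := hwz ▸ h
          rwa [← Ideal.mem_comap, Ideal.comap_map_of_surjective _ Ideal.Quotient.mk_surjective,
            ← RingHom.ker_eq_comap_bot, Ideal.mk_ker, sup_eq_left.mpr (hfker.trans_le hP𝔪)] at h')
      show IsLocalization _ _
      rw [← hsub]
      have hJ : J.map (algebraMap S R) = PR := by rw [show J = P from hfker]
      have hloc : IsLocalization (Algebra.algebraMapSubmonoid (S ⧸ J) 𝔪.primeCompl) (R ⧸ J.map (algebraMap S R)) :=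
        inferInstance
      letI : CommRing (R ⧸ J.map (algebraMap S R)) := Ideal.Quotient.commRing _
      exact @IsLocalization.isLocalization_of_algEquiv (S ⧸ J) (Ideal.Quotient.commRing J).toCommSemiring
        (Algebra.algebraMapSubmonoid (S ⧸ J) 𝔪.primeCompl) (R ⧸ J.map (algebraMap S R))
        (Ideal.Quotient.commRing _).toCommSemiring _ (R ⧸ PR) (Ideal.Quotient.commRing PR).toCommSemiring algJ hloc
        (AlgEquiv.ofRingEquiv (f := Ideal.quotEquivOfEq hJ) fun z => by
          obtain ⟨z, rfl⟩ := Ideal.Quotient.mk_surjective z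
          rfl : (R ⧸ J.map (algebraMap S R)) ≃ₐ[S ⧸ J] (R ⧸ PR))
    have hgu : CAlg2.IsGeomUnibranch (R ⧸ PR) := isGeomUnibranch_tensor hA hB A' B' hbA hbB f rfl (R ⧸ PR)
      (𝔪.map (Ideal.Quotient.mk J))
      (fun a ha => Ideal.mem_map_of_mem _ (by rw [h𝔪]; exact Ideal.mem_sup_left (Ideal.mem_map_of_mem _ ha)))
      (fun b hb => Ideal.mem_map_of_mem _ (by rw [h𝔪]; exact Ideal.mem_sup_right (Ideal.mem_map_of_mem _ hb)))
    obtain ⟨Q, -, huniq⟩ := (S2135.result (A := R ⧸ PR) (Ash := C ⧸ PR.map (algebraMap R C))).1 hgu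
    have hmap : ∀ T'' ∈ minimalPrimes C, T''.comap (algebraMap R C) = PR →
        T''.map (Ideal.Quotient.mk (PR.map (algebraMap R C))) = Q ∧
          (T''.map (Ideal.Quotient.mk (PR.map (algebraMap R C)))).comap (Ideal.Quotient.mk _) = T'' := fun T'' h'' e'' => by
      haveI := h''.1.1
      have hle : PR.map (algebraMap R C) ≤ T'' := Ideal.map_le_iff_le_comap.2 e''.ge
      have hback : (T''.map (Ideal.Quotient.mk (PR.map (algebraMap R C)))).comap (Ideal.Quotient.mk _) = T'' := by
        rw [Ideal.comap_map_of_surjective _ Ideal.Quotient.mk_surjective, ← RingHom.ker_eq_comap_bot, Ideal.mk_ker,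
          sup_eq_left.mpr hle]
      refine ⟨huniq _ ⟨⟨Ideal.map_isPrime_of_surjective Ideal.Quotient.mk_surjective
        (by rw [Ideal.mk_ker]; exact hle), bot_le⟩, fun q hq hqle => ?_⟩, hback⟩
      haveI := hq.1
      exact Ideal.map_le_iff_le_comap.2 (h''.2 ⟨Ideal.IsPrime.comap _, bot_le⟩ ((Ideal.comap_mono hqle).trans hback.le))
    rw [← (hmap T hT hTR).2, ← (hmap T' hT' hTR').2, (hmap T hT hTR).1, (hmap T' hT' hTR').1]
  · obtain ⟨p, q⟩ := pq
    obtain ⟨hp, hq⟩ := hpq
    haveI : p.IsPrime := hp.1.1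
    haveI : q.IsPrime := hq.1.1
    obtain ⟨hk, h1, h2, hle⟩ := hker2 p q
    haveI := hk
    have hd : Disjoint (𝔪.primeCompl : Set S) ((ker2 p q : Ideal S) : Set S) :=
      Set.disjoint_left.mpr fun z hz hzP => hz (hle hzP)
    let PR := (ker2 p q).map (algebraMap S R)
    haveI : PR.IsPrime := IsLocalization.isPrime_of_isPrime_disjoint 𝔪.primeCompl R _ hk hd
    have hback : PR.comap (algebraMap S R) = ker2 p q :=
      IsLocalization.comap_map_of_isPrime_disjoint 𝔪.primeCompl R hk hd
    obtain ⟨W, hW⟩ := PrimeSpectrum.comap_surjective_of_faithfullyFlat (A := R) (B := C) ⟨PR, inferInstance⟩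
    have hW' : W.asIdeal.comap (algebraMap R C) = PR := congrArg PrimeSpectrum.asIdeal hW
    obtain ⟨T, hT, hTW⟩ := Ideal.exists_minimalPrimes_le (bot_le : ⊥ ≤ W.asIdeal)
    refine ⟨T, hT, ?_⟩
    have hTS : (T.comap (algebraMap R C)).comap (algebraMap S R) = ker2 p q := by
      have hle' := (Ideal.comap_mono (f := algebraMap S R) ((Ideal.comap_mono hTW).trans hW'.le)).trans hback.le
      exact le_antisymm hle' ((hmin' p hp q hq).2 (hC T hT).1 hle')
    exact Prod.ext (show ((T.comap (algebraMap R C)).comap (algebraMap S R)).comap iA = p by rw [hTS]; exact h1)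
      (show ((T.comap (algebraMap R C)).comap (algebraMap S R)).comap iB = q by rw [hTS]; exact h2)

end Groth.Agent.TensorBranch
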